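import Cfsg.Agent.H936.P4.Card
import Cfsg.Agent.H815.P4.Real
import Cfsg.Agent.H264.U4.Grps

/-!
# S5210, `q = 3` (3P): the groups `McL`, `McL:2`, `U₆(2)`, `U₆(2):2` (helper936, tasks 5294, 5295)

From the data of helper264 (`H264/U4/Grps`), the transport of helper815 (`H815/P4/Real`) and `Card`. The negative facts `Neg pC`,
`Neg pB` (no element of the group inverts `V` and centralizes `S/V`) are hypotheses here.
-/

set_option autoImplicit false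

namespace Cfsg.Agent.H936.P4

open Cfsg Cfsg.FusionSystem Cfsg.Agent.H776.P4 Cfsg.Agent.H71.P4 Cfsg.Agent.H815.P4
open Cfsg.Agent.H756.PU (HypK Ess Inv Com NormAut TIAut AF)
open Cfsg.Agent.H264.U4
open Cfsg.Agent.SporadicStructure.Co0Matrix

universe u

/-- no element of `G` inverts `V` and centralizes `S/V` -/
def Neg {G : Type} [Group G] (φ : M6 →* G) : Prop :=
  ¬ ∃ g : G, (∀ x : M6, x.r0 = 0 → x.r1 = 0 → g * φ x * g⁻¹ = φ x⁻¹) ∧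
    ∀ x : M6, ∃ y : M6, y.r0 = x.r0 ∧ y.r1 = x.r1 ∧ g * φ x * g⁻¹ = φ y

/-- the pieces used -/
structure TPc : Prop extends Pcs.{u} where
  tA : StThreeA.{u}
  tD : StThreeD.{u}
  tN : StThreeN.{u}
  tT : StThreeT.{u}

/-- the positive data -/
structure Pos {G : Type} [Group G] (φ : M6 →* G) (s0 s1 l k0 k1 m0 m1 : ZMod 3) : Prop where
  inj : Function.Injective φ
  idx : ¬ 3 ∣ φ.range.index
  ze : Rz φ (fun _ => True) (M6.tor 0 1 (-1) 1)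
  rh : Rz φ (fun _ => True) (M6.tor s0 s1 l (-1))
  wv : Rz φ (· ∈ M6.MV) M6.wv
  w1 : Rz φ (· ∈ M6.MQ) (M6.wk k0 k1)
  w2 : Rz φ (· ∈ M6.MQ) (M6.wk m0 m1)

section

variable {K : Type u} [Field K] [StarRing K] {p n : ℕ} [Fact p.Prime] {G : Type} [Group G] [Finite G] {φ : M6 →* G}
  {s0 s1 l k0 k1 m0 m1 : ZMod 3}

theorem pow_four (hK : HypK K p n) (hq : p ^ n = 3) (C : Cx K) (a b : ZMod 3) :
    (C.c a + C.c b * C.i) ^ 4 = C.c (a ^ 2 + b ^ 2) := by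
  have h1 : star (C.c a + C.c b * C.i) = C.c a - C.c b * C.i := by
    rw [star_add, star_mul', C.sc, C.sc, C.si]; ring
  have h2 : star (C.c a + C.c b * C.i) = (C.c a + C.c b * C.i) ^ 3 := by rw [hK.star_eq, hq]
  have h3 : (C.c a + C.c b * C.i) ^ 4 = (C.c a + C.c b * C.i) * (C.c a + C.c b * C.i) ^ 3 := by ring
  rw [h3, ← h2, h1, map_add, map_pow, map_pow]
  linear_combination -(C.c b) ^ 2 * C.ii

/-- the facts common to all groups -/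
theorem facts (T : TPc.{u}) (hK : HypK K p n) (hq : p ^ n = 3) (C : Cx K) (hP : Pos φ s0 s1 l k0 k1 m0 m1)
    (hs : s0 ^ 2 + s1 ^ 2 ≠ 0) (hl : l ≠ 0)
    {F : FusionSystem (⊤ : Subgroup (PG K))} (hF : Sys C φ F) :
    (∃ γ ∈ F.autGroup (PV K), IsWV γ) ∧ C.c k0 + C.c k1 * C.i ∈ Pt (F.autGroup (PQ K)) ∧
      C.c m0 + C.c m1 * C.i ∈ Pt (F.autGroup (PQ K)) ∧
      (∀ ζ, IsTorP ζ C.i (-1) (RingEquiv.refl K) → ζ ∈ AF F) ∧
      ∃ ρ s l, IsTorP ρ s l starRingAut ∧ ρ ∈ AF F := by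
  have hsn : C.c s0 + C.c s1 * C.i ≠ 0 := by
    intro h0
    have h1 := pow_four hK hq C s0 s1
    rw [h0, zero_pow (by norm_num)] at h1
    exact hs (C.c.injective (by rw [← h1, map_zero]))
  have hln : C.c l ≠ 0 := by
    intro h0
    exact hl (C.c.injective (by rw [h0, map_zero]))
  refine ⟨?_, ?_, ?_, ?_, ?_⟩
  · obtain ⟨g, hg⟩ := hP.wv
    exact hF.wv T.grp hK ⟨g, fun x h0 h1 => hg x ⟨h0, h1⟩⟩
  · exact hF.wk T.grp hK hq (C.re_mk _ _) (C.im_mk _ _) hP.w1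
  · exact hF.wk T.grp hK hq (C.re_mk _ _) (C.im_mk _ _) hP.w2
  · intro ζ hζ
    obtain ⟨g, hg⟩ := hP.ze
    refine hF.tor ⟨g, fun x => hg x trivial⟩ hζ C.re_i C.im_i ?_ fun x => rfl
    rw [C.re_neg, C.re_one]
  · obtain ⟨g, hg⟩ := hP.rh
    obtain ⟨ρ, hρ⟩ := (T.grp hK).2.2.1 (C.c s0 + C.c s1 * C.i) (C.c l) starRingAut hsn hln (C.sc l)
    exact ⟨ρ, _, _, hρ, hF.tor' ⟨g, fun x => hg x trivial⟩ hρ (C.re_mk _ _) (C.im_mk _ _) (C.re_c l) fun x => rfl⟩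

theorem tor_mem_TP {α : MulAut (PG K)} {s l : K} {τ : K ≃+* K} (h : IsTorP α s l τ) : α ∈ TP K :=
  Subgroup.subset_closure ⟨_, _, _, h⟩

theorem nn_of (T : TPc.{u}) (hK : HypK K p n) {F : FusionSystem (⊤ : Subgroup (PG K))}
    (h1 : ∃ γ ∈ F.autGroup (PV K), IsWV γ) {κ : K} (h2 : κ ∈ Pt (F.autGroup (PQ K))) :
    (¬ ∀ γ ∈ F.autGroup (PV K), NormAut (⊤ : Subgroup (PG K)) γ) ∧
    (¬ ∀ γ ∈ F.autGroup (PQ K), NormAut (⊤ : Subgroup (PG K)) γ) := by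
  constructor
  · obtain ⟨γ, hγ, hw⟩ := h1
    exact fun h => nn_wv hw (h γ hγ)
  · obtain ⟨γ, hγ, hw⟩ := h2
    exact fun h => nn_wk hK hw (h γ hγ)

/-- the order of `Aut_F(S)` for the small groups -/
theorem small_le (T : TPc.{u}) (hK : HypK K p n) (hq : p ^ n = 3) (C : Cx K) (hP : Pos φ s0 s1 l k0 k1 m0 m1)
    (hs : s0 ^ 2 + s1 ^ 2 ≠ 0) (hl : l ≠ 0) (hN : Neg φ)
    {F : FusionSystem (⊤ : Subgroup (PG K))} (hsat : F.IsSaturated p) (hF : Sys C φ F) : Nat.card (AF F) ≤ 243 * 8 := by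
  obtain ⟨f1, f2, -⟩ := facts T hK hq C hP hs hl hF
  obtain ⟨n1, n2⟩ := nn_of T hK f1 f2
  exact card_AF_le_eight T.toPcs hK hq C.ii hsat n1 n2 fun α hα h1 h2 => hN (hF.neg hα h1 h2)

theorem fin_card (T : TPc.{u}) (hK : HypK K p n) (hq : p ^ n = 3) (C : Cx K) (hP : Pos φ s0 s1 l k0 k1 m0 m1)
    (hs : s0 ^ 2 + s1 ^ 2 ≠ 0) (hl : l ≠ 0) {F : FusionSystem (⊤ : Subgroup (PG K))} (hsat : F.IsSaturated p)
    (hF : Sys C φ F) {d y : ℕ}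
    (hd : d = 8 ∨ d = 16 ∧ Rz φ (fun _ => True) (M6.tor 1 0 (-1) 1)) (hup : Nat.card (AF F) ≤ 243 * d)
    (hy : ((m0 - k0) ^ 2 + (m1 - k1) ^ 2 = 1 ∧ y = 48) ∨ ((m0 - k0) ^ 2 + (m1 - k1) ^ 2 = -1 ∧ y = 30)) :
    Nat.card (AF F) = 243 * d ∧ Nat.card (F.autGroup (PQ K)) = 81 * (y * d) ∧
      (¬ ∀ γ ∈ F.autGroup (PV K), NormAut (⊤ : Subgroup (PG K)) γ) ∧
      (¬ ∀ γ ∈ F.autGroup (PQ K), NormAut (⊤ : Subgroup (PG K)) γ) := by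
  have h9 := nine_of hK hq C.ii
  obtain ⟨f1, f2, f3, f4, ρ, s, l', hρ, hρF⟩ := facts T hK hq C hP hs hl hF
  obtain ⟨ζ, hζ⟩ := (T.grp hK).2.2.1 C.i (-1) (RingEquiv.refl K) h9.ι_ne (neg_ne_zero.2 one_ne_zero) (by simp)
  have hζD : ζ ∈ AF F ⊓ TP K := ⟨f4 ζ hζ, tor_mem_TP hζ⟩
  have hρD : ρ ∈ AF F ⊓ TP K := ⟨hρF, tor_mem_TP hρ⟩
  have hlow : d ≤ Nat.card (AF F ⊓ TP K : Subgroup (MulAut (PG K))) := by
    rcases hd with rfl | ⟨rfl, g, hg⟩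
    · exact low_eight hK h9 hζ hζD hρ (fun x => rfl) hρD
    · obtain ⟨z, hz⟩ := (T.grp hK).2.2.1 1 (-1) (RingEquiv.refl K) one_ne_zero (neg_ne_zero.2 one_ne_zero) (by simp)
      refine low_sixteen hK h9 hζ hζD hρ (fun x => rfl) hρD hz ⟨?_, tor_mem_TP hz⟩
      refine hF.tor ⟨g, fun x => hg x trivial⟩ hz C.re_one C.im_one ?_ fun x => rfl
      rw [C.re_neg, C.re_one]
  have hd32 : d ≠ 32 := by rcases hd with rfl | ⟨rfl, -⟩ <;> norm_num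
  have hv4 : (C.c (m0 - k0) + C.c (m1 - k1) * C.i) ^ 4 = C.c ((m0 - k0) ^ 2 + (m1 - k1) ^ 2) := pow_four hK hq C _ _
  have hv : C.c (m0 - k0) + C.c (m1 - k1) * C.i ≠ 0 := by
    intro h0
    rw [h0, zero_pow (by norm_num)] at hv4
    have h1 : (m0 - k0) ^ 2 + (m1 - k1) ^ 2 = 0 := C.c.injective (by rw [← hv4, map_zero])
    rcases hy with ⟨h2, -⟩ | ⟨h2, -⟩
    · rw [h2] at h1; exact absurd h1 (by decide)
    · rw [h2] at h1; exact absurd h1 (by decide)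
  have hsum : C.c k0 + C.c k1 * C.i + (C.c (m0 - k0) + C.c (m1 - k1) * C.i) = C.c m0 + C.c m1 * C.i := by
    rw [map_sub, map_sub]; ring
  obtain ⟨e1, e2, e3, -, e4, e5⟩ := end_card T.toPcs T.tA T.tD T.tN T.tT hK hq C.ii hsat f1 hv f2
    (by rw [hsum]; exact f3) hlow hup
  refine ⟨e1, ?_, e2, e3⟩
  rcases hy with ⟨h2, rfl⟩ | ⟨h2, rfl⟩
  · exact e4 hd32 (by rw [hv4, h2, map_one])
  · exact e5 hd32 (by rw [hv4, h2, map_neg, map_one])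

end

theorem small (T : TPc.{u}) {G : Type} [Group G] [Finite G] {φ : M6 →* G} {s0 s1 l k0 k1 m0 m1 : ZMod 3}
    (hP : Pos φ s0 s1 l k0 k1 m0 m1) (hs : s0 ^ 2 + s1 ^ 2 ≠ 0) (hl : l ≠ 0) (hN : Neg φ) {y : ℕ}
    (hy : ((m0 - k0) ^ 2 + (m1 - k1) ^ 2 = 1 ∧ y = 48) ∨ ((m0 - k0) ^ 2 + (m1 - k1) ^ 2 = -1 ∧ y = 30)) :
    StThreeP.{u} 8 (y * 8) := by
  intro K _ _ p n _ hK hq
  obtain ⟨C⟩ := exists_Cx hK hq
  obtain ⟨F, hsat, hreal, hF⟩ := exists_sys hq C φ hP.inj hP.idx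
  obtain ⟨e1, e2, e3, e4⟩ := fin_card T hK hq C hP hs hl hsat hF (Or.inl rfl)
    (small_le T hK hq C hP hs hl hN hsat hF) hy
  exact ⟨F, hsat, hreal, e1, e2, e3, e4⟩

theorem big (T : TPc.{u}) {B B2 : Subgroup Co0} (hle : B ≤ B2) (h2 : B.relIndex B2 = 2) {φ : M6 →* Co0}
    {hB : ∀ x, φ x ∈ B} {hB2 : ∀ x, φ x ∈ B2} {s0 s1 l k0 k1 m0 m1 : ZMod 3}
    (hP : Pos (φ.codRestrict B hB) s0 s1 l k0 k1 m0 m1) (hP2 : Pos (φ.codRestrict B2 hB2) s0 s1 l k0 k1 m0 m1)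
    (hz : Rz (φ.codRestrict B2 hB2) (fun _ => True) (M6.tor 1 0 (-1) 1))
    (hs : s0 ^ 2 + s1 ^ 2 ≠ 0) (hl : l ≠ 0) (hN : Neg (φ.codRestrict B hB)) {y : ℕ}
    (hy : ((m0 - k0) ^ 2 + (m1 - k1) ^ 2 = 1 ∧ y = 48) ∨ ((m0 - k0) ^ 2 + (m1 - k1) ^ 2 = -1 ∧ y = 30)) :
    StThreeP.{u} 16 (y * 16) := by
  intro K _ _ p n _ hK hq
  obtain ⟨C⟩ := exists_Cx hK hq
  obtain ⟨F1, hsat1, -, hF1⟩ := exists_sys hq C (φ.codRestrict B hB) hP.inj hP.idx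
  obtain ⟨F, hsat, hreal, hF⟩ := exists_sys hq C (φ.codRestrict B2 hB2) hP2.inj hP2.idx
  have hup1 := small_le T hK hq C hP hs hl hN hsat1 hF1
  have hfinA : Finite (MulAut (PG K)) := finite_aut hK
  have hup : Nat.card (AF F) ≤ 2 * Nat.card (AF F1) := by
    refine card_le_two_mul ((φ.codRestrict B2 hB2).comp (iso C).toMonoidHom) (B.subgroupOf B2) h2 ?_ hF.top
    intro α
    rw [hF1.top]
    constructor
    · rintro ⟨g, hg⟩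
      refine ⟨⟨g, hle g.2⟩, g.2, fun x => Subtype.ext ?_⟩
      have h1 : φ (iso C (α x)) = (g : Co0) * φ (iso C x) * (g : Co0)⁻¹ := congrArg Subtype.val (hg x)
      exact h1
    · rintro ⟨g, hgB, hg⟩
      refine ⟨⟨g, hgB⟩, fun x => Subtype.ext ?_⟩
      have h1 : φ (iso C (α x)) = (g : Co0) * φ (iso C x) * (g : Co0)⁻¹ := congrArg Subtype.val (hg x)
      exact h1
  obtain ⟨e1, e2, e3, e4⟩ := fin_card T hK hq C hP2 hs hl hsat hF (Or.inr ⟨rfl, hz⟩) (by omega) hy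
  exact ⟨F, hsat, hreal, e1, e2, e3, e4⟩

theorem posC : Pos pC 1 1 (-1) 1 1 (-1) (-1) := ⟨pC_injective, index_C, C_t2, C_t1, C_v, C_w1, C_w2⟩
theorem posC2 : Pos pC2 1 1 (-1) 1 1 (-1) (-1) := ⟨pC2_injective, index_C2, C2_t2, C2_t1, C2_v, C2_w1, C2_w2⟩
theorem posB : Pos pB 1 0 1 0 0 1 0 := ⟨pB_injective, index_B, B_t3, B_t2, B_v, B_w0, B_w1⟩
theorem posB2 : Pos pB2 1 0 1 0 0 1 0 := ⟨pB2_injective, index_B2, B2_t3, B2_t2, B2_v, B2_w0, B2_w1⟩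

/-- `McL` -/
theorem stThreeP_C (T : TPc.{u}) (hN : Neg pC) : StThreeP.{u} 8 240 :=
  small T posC (by decide) (by decide) hN (y := 30) (Or.inr ⟨by decide, rfl⟩)

/-- `McL:2` -/
theorem stThreeP_C2 (T : TPc.{u}) (hN : Neg pC) : StThreeP.{u} 16 480 :=
  big T GC_le_GC2 relIndex_GC posC posC2 C2_t3 (by decide) (by decide) hN (y := 30) (Or.inr ⟨by decide, rfl⟩)

/-- `U₆(2)` -/
theorem stThreeP_B (T : TPc.{u}) (hN : Neg pB) : StThreeP.{u} 8 384 :=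
  small T posB (by decide) (by decide) hN (y := 48) (Or.inl ⟨by decide, rfl⟩)

/-- `U₆(2):2` -/
theorem stThreeP_B2 (T : TPc.{u}) (hN : Neg pB) : StThreeP.{u} 16 768 :=
  big T GB_le_GB2 relIndex_GB posB posB2 B2_t4 (by decide) (by decide) hN (y := 48) (Or.inl ⟨by decide, rfl⟩)

end Cfsg.Agent.H936.P4
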