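import Cfsg.Agent.H776.P4.Asm
import Cfsg.Agent.H71.P4.ThreeD
import Cfsg.Agent.H815.P4.Base
import Cfsg.Agent.H987.P4.Ep

/-!
# S5210, `q = 3`: the order of `Aut_F(Q)` from the classification of the configurations (helper936, task 5294)
-/

set_option autoImplicit false
set_option linter.unusedSectionVars false

namespace Cfsg.Agent.H936.P4

open Cfsg Cfsg.FusionSystem Cfsg.Agent.H776.P4 Cfsg.Agent.H71.P4
open Cfsg.Agent.H756.PU (HypK Ess Inv Com NormAut TIAut AF)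
open Cfsg.Agent.H756

universe u

/-! ### conjugating a parabolic by an automorphism commuting with `D` -/

section twist

variable {K : Type u} [Field K] [StarRing K] {p : ℕ} {Q : Subgroup (PG K)}

theorem isRP_inv {θ : MulAut (PG K)} {t : MulAut Q} (ht : IsRP θ t) : IsRP θ⁻¹ t⁻¹ := by
  intro e
  have h1 := ht (t⁻¹ e)
  rw [MulAut.apply_inv_self] at h1
  rw [h1, MulAut.inv_apply_self]

theorem isRP_mul {θ θ' : MulAut (PG K)} {t t' : MulAut Q} (ht : IsRP θ t) (ht' : IsRP θ' t') :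
    IsRP (θ * θ') (t * t') := by
  intro e
  rw [MulAut.mul_apply, ht, ht', MulAut.mul_apply]

theorem isRP_unique {θ : MulAut (PG K)} {t t' : MulAut Q} (ht : IsRP θ t) (ht' : IsRP θ t') : t = t' := by
  apply MulEquiv.ext
  intro e
  apply Subtype.ext
  rw [ht, ht']

/-- the group `Aut_S(Q)` is normalized by the restrictions of automorphisms of `S` -/
theorem conj_mem_ind {θ : MulAut (PG K)} {t : MulAut Q} (ht : IsRP θ t) {x : MulAut Q}
    (hx : x ∈ autInducedBy (⊤ : Subgroup (PG K)) Q) : t * x * t⁻¹ ∈ autInducedBy (⊤ : Subgroup (PG K)) Q := by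
  rw [H802.mem_autInducedBy_iff] at hx ⊢
  obtain ⟨g, -, hg⟩ := hx
  refine ⟨θ g, trivial, fun e => ?_⟩
  rw [MulAut.mul_apply, MulAut.mul_apply, ht, hg, isRP_inv ht, map_mul, map_mul, map_inv, MulAut.apply_inv_self]

theorem conj_mem_ind_iff {θ : MulAut (PG K)} {t : MulAut Q} (ht : IsRP θ t) {x : MulAut Q} :
    t * x * t⁻¹ ∈ autInducedBy (⊤ : Subgroup (PG K)) Q ↔ x ∈ autInducedBy (⊤ : Subgroup (PG K)) Q := by
  refine ⟨fun h => ?_, conj_mem_ind ht⟩
  have h1 := conj_mem_ind (isRP_inv ht) h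
  have h2 : t⁻¹ * (t * x * t⁻¹) * t⁻¹⁻¹ = x := by group
  rwa [h2] at h1

theorem normAut_conj {θ : MulAut (PG K)} {t γ : MulAut Q} (ht : IsRP θ t) (h : NormAut (⊤ : Subgroup (PG K)) γ) :
    NormAut (⊤ : Subgroup (PG K)) (t * γ * t⁻¹) := by
  intro x hx
  have h1 : (t * γ * t⁻¹) * x * (t * γ * t⁻¹)⁻¹ = t * (γ * (t⁻¹ * x * t⁻¹⁻¹) * γ⁻¹) * t⁻¹ := by group
  rw [h1]
  exact conj_mem_ind ht (h _ (conj_mem_ind (isRP_inv ht) hx))

theorem normAut_conj_iff {θ : MulAut (PG K)} {t γ : MulAut Q} (ht : IsRP θ t) :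
    NormAut (⊤ : Subgroup (PG K)) (t * γ * t⁻¹) ↔ NormAut (⊤ : Subgroup (PG K)) γ := by
  refine ⟨fun h => ?_, normAut_conj ht⟩
  have h1 := normAut_conj (isRP_inv ht) h
  have h2 : t⁻¹ * (t * γ * t⁻¹) * t⁻¹⁻¹ = γ := by group
  rwa [h2] at h1

theorem parP_conj {Γ : Subgroup (MulAut Q)} {D : Subgroup (MulAut (PG K))} (h : ParP p Q Γ D) {θ : MulAut (PG K)}
    {t : MulAut Q} (ht : IsRP θ t) (hc : ∀ d ∈ D, θ * d = d * θ) : ParP p Q (Γ.map (MulAut.conj t).toMonoidHom) D := by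
  have hmem : ∀ γ, γ ∈ Γ.map (MulAut.conj t).toMonoidHom ↔ t⁻¹ * γ * t ∈ Γ := by
    intro γ
    constructor
    · rintro ⟨δ, hδ, rfl⟩
      have h2 : t⁻¹ * ((MulAut.conj t).toMonoidHom δ) * t = δ := by
        show t⁻¹ * (t * δ * t⁻¹) * t = δ
        group
      rwa [h2]
    · intro hγ
      refine ⟨_, hγ, ?_⟩
      show t * (t⁻¹ * γ * t) * t⁻¹ = γ
      group
  refine ⟨?_, ?_, ?_, ?_, h.D_le, h.D_cop, ?_, ?_⟩
  · intro x hx
    rw [hmem]
    have h1 := h.indu (conj_mem_ind (isRP_inv ht) hx)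
    rwa [inv_inv] at h1
  · intro P hP hPp
    obtain ⟨g, hg, hgP⟩ := h.syl (P.map (MulAut.conj t⁻¹).toMonoidHom) (by
      rintro _ ⟨x, hx, rfl⟩
      have h1 := (hmem x).1 (hP hx)
      show t⁻¹ * x * t⁻¹⁻¹ ∈ Γ
      rwa [inv_inv]) (hPp.map _)
    refine ⟨t * g * t⁻¹, (hmem _).2 (by
      have h2 : t⁻¹ * (t * g * t⁻¹) * t = g := by group
      rwa [h2]), fun x hx => ?_⟩
    have h1 := hgP _ ⟨x, hx, rfl⟩
    have h2 : t * g * t⁻¹ * x * (t * g * t⁻¹)⁻¹ = t * (g * (t⁻¹ * x * t⁻¹⁻¹) * g⁻¹) * t⁻¹ := by group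
    rw [h2]
    exact conj_mem_ind ht h1
  · intro γ hγ x hx hxI hγx
    have h1 := h.ti _ ((hmem γ).1 hγ) (t⁻¹ * x * t) (by
      have := conj_mem_ind (isRP_inv ht) hx
      rwa [inv_inv] at this) (fun h2 => hxI (by
        have h3 : (Inn Q).Normal := inferInstance
        have h4 := h3.conj_mem _ h2 t
        have h5 : t * (t⁻¹ * x * t) * t⁻¹ = x := by group
        rwa [h5] at h4)) (by
      have h2 : t⁻¹ * γ * t * (t⁻¹ * x * t) * (t⁻¹ * γ * t)⁻¹ = t⁻¹ * (γ * x * γ⁻¹) * t⁻¹⁻¹ := by group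
      rw [h2]
      exact conj_mem_ind (isRP_inv ht) hγx)
    have h2 := normAut_conj ht h1
    have h3 : t * (t⁻¹ * γ * t) * t⁻¹ = γ := by group
    rwa [h3] at h2
  · intro hall
    apply h.nn
    intro γ hγ
    rw [← normAut_conj_iff ht]
    exact hall _ ((hmem _).2 (by
      have h2 : t⁻¹ * (t * γ * t⁻¹) * t = γ := by group
      rwa [h2]))
  · intro d hd γ hγ
    rw [hmem]
    have h1 : t⁻¹ * γ * t = γ := by
      have h2 : IsRP (θ⁻¹ * d * θ) (t⁻¹ * γ * t) := isRP_mul (isRP_mul (isRP_inv ht) hγ) ht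
      have h3 : θ⁻¹ * d * θ = d := by
        rw [mul_assoc, ← hc d hd, inv_mul_cancel_left]
      rw [h3] at h2
      exact isRP_unique h2 hγ
    rw [h1]
    exact h.D_res d hd γ hγ
  · intro γ hγ hn
    obtain ⟨x, d, hd, hxd⟩ := h.norm _ ((hmem γ).1 hγ) (by
      have := normAut_conj (isRP_inv ht) hn
      rwa [inv_inv] at this)
    refine ⟨θ x, d, hd, fun e => ?_⟩
    have h1 := hxd (t⁻¹ e)
    rw [MulAut.mul_apply, MulAut.mul_apply, MulAut.apply_inv_self] at h1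
    have h2 : ((γ e : Q) : PG K) = θ ((t⁻¹ (γ e) : Q) : PG K) := by
      have h3 := isRP_inv ht (γ e)
      rw [h3, MulAut.apply_inv_self]
    rw [h2, h1, map_mul, map_mul, map_inv]
    congr 2
    have h4 : θ (d ((t⁻¹ e : Q) : PG K)) = (θ * d) ((t⁻¹ e : Q) : PG K) := rfl
    rw [h4, hc d hd, MulAut.mul_apply, isRP_inv ht e, MulAut.apply_inv_self]

end twist

section main

variable {K : Type u} [Field K] [StarRing K] {p n : ℕ} {ι : K}

theorem exists_resQ {κ : K} {ε : MulAut (PG K)} (h : IsEp κ ε) : ∃ t : MulAut (PQ K), IsRP ε t := by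
  apply exists_res
  ext x
  constructor
  · rintro ⟨y, hy, rfl⟩
    show (ε y).c = 0
    rw [h.c]
    exact hy
  · intro hx
    refine ⟨ε⁻¹ x, ?_, MulAut.apply_inv_self _ _ _⟩
    show (ε⁻¹ x).c = 0
    rw [(H987.P4.Ep.inv h).c]
    exact hx

/-- the order of `Γ` in all cases -/
theorem card_par (hG : StGrp.{u}) (hA : StThreeA.{u}) (hD : StThreeD.{u}) (hN : StThreeN.{u})
    (hK : HypK K p n) (hq : p ^ n = 3) (hι : ι * ι = -1) {Γ : Subgroup (MulAut (PQ K))} {D : Subgroup (MulAut (PG K))}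
    (hP : ParP p (PQ K) Γ D) (hT : HasTorP D (fun t => t ^ 2) (fun t => (t * star t)⁻¹)) :
    ∃ (κ : K) (T : Fin 6), Pt Γ = {x | ∃ y ∈ Cfg ι T, x = κ + y} ∧ InvK D (Cfg ι T) ∧
      (∀ (α : MulAut (PG K)) (s l : K) (τ : K ≃+* K), IsTorP α s l τ → CfgMap ι T (actK s l τ) → α ∈ D) ∧
      (T = 0 → Nat.card Γ = 81 * 12 * Nat.card D) ∧
      (T = 1 ∨ T = 2 → Nat.card Γ = 81 * 48 * Nat.card D) ∧
      (T = 3 ∨ T = 4 → Nat.card Γ = 81 * 30 * Nat.card D) ∧
      (T = 5 → Nat.card Γ = 81 * 120 * Nat.card D) := by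
  obtain ⟨κ, T, hfix, hPt, hinv, hmap, -, -⟩ := hD hK hq ι hι Γ D hP hT
  obtain ⟨ε, hε⟩ := (hG hK).2.2.2.2.2.1 (three_of hK hq) (-κ)
  obtain ⟨t, ht⟩ := exists_resQ hε
  have hcomm : ∀ d ∈ D, ε * d = d * ε := by
    intro d hd
    obtain ⟨s, l, τ, hd'⟩ := (hG hK).2.2.2.1 d (hP.D_le hd)
    have h1 := H987.P4.Ep.tor hd' hε
    have h2 : actK s l τ (-κ) = -κ := by
      have h3 := hfix d hd s l τ hd'
      rw [actK] at h3 ⊢
      rw [map_neg, mul_neg, h3]
    rw [h2] at h1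
    have h3 := H987.P4.Ep.uniq h1 hε
    exact (mul_inv_eq_iff_eq_mul.1 h3).symm
  have hP' := parP_conj hP ht hcomm
  have hPt' : Pt (Γ.map (MulAut.conj t).toMonoidHom) = Cfg ι T := by
    rw [((H987.P4.stEp hK hq).2.2.2.1) (-κ) ε t Γ hε ht hP.indu, hPt]
    ext x
    constructor
    · rintro ⟨_, ⟨y, hy, rfl⟩, rfl⟩
      rwa [neg_add_cancel_left]
    · intro hx
      exact ⟨_, ⟨x, hx, rfl⟩, (neg_add_cancel_left _ _).symm⟩
  have heq' := (hA hK hq _ D hP' hT).2.2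
  have hnum := hN hK hq ι hι _ D hP' hT T hPt' heq'
  rw [card_map_conj] at hnum
  exact ⟨κ, T, hPt, hinv, hmap, hnum⟩

theorem cfg_diff (h : Nine K ι) {T : Fin 6} {κ x v : K} (hv : v ≠ 0)
    (h1 : x ∈ {x | ∃ y ∈ Cfg ι T, x = κ + y}) (h2 : x + v ∈ {x | ∃ y ∈ Cfg ι T, x = κ + y}) :
    T ≠ 0 ∧ (v ^ 4 = 1 → T ≠ 3 ∧ T ≠ 4) ∧ (v ^ 4 = -1 → T ≠ 1 ∧ T ≠ 2) := by
  obtain ⟨y, hy, rfl⟩ := h1
  obtain ⟨z, hz, hyz⟩ := h2
  have hvz : v = z - y := by linear_combination hyz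
  have h3 := h.three
  have hii := h.ii
  have hne : (1 : K) ≠ -1 := by
    intro h0
    have h4 : (2 : K) = 0 := by linear_combination h0
    have : (1 : K) = 0 := by linear_combination h3 - h4
    exact one_ne_zero this
  refine ⟨?_, ?_, ?_⟩
  · rintro rfl
    have e1 : y = 0 := hy
    have e2 : z = 0 := hz
    apply hv
    rw [hvz, e1, e2, sub_self]
  · intro hv4
    have key : ∀ w : K, (w = 1 + ι ∨ w = 1 - ι) → (y = w ∨ y = -w) → (z = w ∨ z = -w) → False := by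
      intro w hw hy hz
      have hw4 : w ^ 4 = -1 := by
        rcases hw with rfl | rfl
        · linear_combination (ι ^ 2 + 4 * ι + 5) * hii - h3
        · linear_combination (ι ^ 2 - 4 * ι + 5) * hii - h3
      have hzy : v ^ 4 = 0 ∨ v ^ 4 = -1 := by
        rcases hy with rfl | rfl <;> rcases hz with rfl | rfl
        · left; rw [hvz, sub_self]; ring
        · right; rw [hvz]; linear_combination 16 * hw4 - 5 * h3
        · right; rw [hvz]; linear_combination 16 * hw4 - 5 * h3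
        · left; rw [hvz, sub_self]; ring
      rcases hzy with h4 | h4
      · rw [hv4] at h4; exact one_ne_zero h4
      · rw [hv4] at h4; exact hne h4
    constructor
    · rintro rfl
      exact key (1 + ι) (Or.inl rfl) hy hz
    · rintro rfl
      exact key (1 - ι) (Or.inr rfl) hy hz
  · intro hv4
    have key : ∀ w : K, w ^ 4 = 1 → (y = 0 ∨ y = w ∨ y = -w) → (z = 0 ∨ z = w ∨ z = -w) → False := by
      intro w hw4 hy hz
      have hzy : v ^ 4 = 0 ∨ v ^ 4 = 1 := by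
        rcases hy with rfl | rfl | rfl <;> rcases hz with rfl | rfl | rfl
        · left; rw [hvz, sub_self]; ring
        · right; rw [hvz]; linear_combination hw4
        · right; rw [hvz]; linear_combination hw4
        · right; rw [hvz]; linear_combination hw4
        · left; rw [hvz, sub_self]; ring
        · right; rw [hvz]; linear_combination 16 * hw4 + 5 * h3
        · right; rw [hvz]; linear_combination hw4
        · right; rw [hvz]; linear_combination 16 * hw4 + 5 * h3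
        · left; rw [hvz, sub_self]; ring
      rcases hzy with h4 | h4
      · rw [hv4] at h4; exact one_ne_zero (neg_eq_zero.1 h4)
      · rw [hv4] at h4; exact hne h4.symm
    constructor
    · rintro rfl
      exact key 1 (one_pow 4) hy hz
    · rintro rfl
      exact key ι (by linear_combination (ι ^ 2 - 1) * hii) hy hz

/-- the Weyl elements `W_κ` do not normalize -/
theorem nn_wk (hK : HypK K p n) {κ : K} {γ : MulAut (PQ K)} (h : IsWk κ γ) : ¬ NormAut (⊤ : Subgroup (PG K)) γ := by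
  obtain ⟨ε, m, t, hε, hm, ht, rfl⟩ := h
  rw [normAut_conj_iff ht]
  exact H815.P4.nn_wq hm

theorem fin6 : ∀ T : Fin 6, T = 0 ∨ T = 1 ∨ T = 2 ∨ T = 3 ∨ T = 4 ∨ T = 5 := by decide

/-- the end -/
theorem end_card (H : Pcs.{u}) (hA : StThreeA.{u}) (hD : StThreeD.{u}) (hN : StThreeN.{u}) (hT3 : StThreeT.{u})
    [Fact p.Prime] (hK : HypK K p n) (hq : p ^ n = 3) (hι : ι * ι = -1) {F : FusionSystem (⊤ : Subgroup (PG K))}
    (hF : F.IsSaturated p) (hwV : ∃ γ ∈ F.autGroup (PV K), IsWV γ) {κ v : K} (hv : v ≠ 0)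
    (h1 : κ ∈ Pt (F.autGroup (PQ K))) (h2 : κ + v ∈ Pt (F.autGroup (PQ K))) {d : ℕ}
    (hlow : d ≤ Nat.card (AF F ⊓ TP K : Subgroup (MulAut (PG K)))) (hup : Nat.card (AF F) ≤ 243 * d) :
    Nat.card (AF F) = 243 * d ∧ (¬ ∀ γ ∈ F.autGroup (PV K), NormAut (⊤ : Subgroup (PG K)) γ) ∧
    (¬ ∀ γ ∈ F.autGroup (PQ K), NormAut (⊤ : Subgroup (PG K)) γ) ∧
    (d = 32 → Nat.card (F.autGroup (PQ K)) = 81 * 3840) ∧
    (d ≠ 32 → v ^ 4 = 1 → Nat.card (F.autGroup (PQ K)) = 81 * (48 * d)) ∧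
    (d ≠ 32 → v ^ 4 = -1 → Nat.card (F.autGroup (PQ K)) = 81 * (30 * d)) := by
  have h9 := nine_of hK hq hι
  have hp3 := three_of hK hq
  have hfin : Finite (PG K) := H815.P4.finite_PG hK
  have hfinA : Finite (MulAut (PG K)) := H815.P4.finite_aut hK
  have hS : IsPGroup p (⊤ : Subgroup (PG K)) := (H.grp hK).2.1
  have hq2 : 2 < p ^ n := by rw [hq]; norm_num
  have hess : ∀ E, F.IsEssential p E → E = PV K ∨ E = PQ K := fun E hE => ess_cases H hK hq2 hF hE
  have hnV : ¬ ∀ γ ∈ F.autGroup (PV K), NormAut (⊤ : Subgroup (PG K)) γ := by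
    obtain ⟨γ, hγ, hw⟩ := hwV
    exact fun h => H815.P4.nn_wv hw (h γ hγ)
  have hnQ : ¬ ∀ γ ∈ F.autGroup (PQ K), NormAut (⊤ : Subgroup (PG K)) γ := by
    obtain ⟨γ, hγ, hw⟩ := h1
    exact fun h => nn_wk hK hw (h γ hγ)
  -- the complement
  have hDc : (Nat.card (AF F ⊓ TP K : Subgroup (MulAut (PG K)))).Coprime 3 := by
    have e1 : Nat.card (AF F ⊓ TP K : Subgroup (MulAut (PG K))) ∣ 32 := by
      rw [← H815.P4.card_TP H.grp hK hq]
      exact Subgroup.card_dvd_of_le inf_le_right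
    exact Nat.Coprime.coprime_dvd_left e1 (by norm_num)
  have hinn : (MulAut.conj : PG K →* MulAut (PG K)).range ≤ AF F := by
    obtain ⟨D0, -, hD0⟩ := H.compl F hS hF
    rw [← hD0]
    exact le_sup_left
  have hle : (MulAut.conj : PG K →* MulAut (PG K)).range ⊔ (AF F ⊓ TP K) ≤ AF F := sup_le hinn inf_le_left
  have hcs := H815.P4.card_innD hK hq hDc
  have hAF : AF F = (MulAut.conj : PG K →* MulAut (PG K)).range ⊔ (AF F ⊓ TP K) := by
    refine (Subgroup.eq_of_le_of_card_ge hle ?_).symm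
    rw [hcs]
    exact hup.trans (Nat.mul_le_mul_left _ hlow)
  have hcA : Nat.card (AF F) = 243 * Nat.card (AF F ⊓ TP K : Subgroup (MulAut (PG K))) := by
    rw [← hcs, ← hAF]
  have hcd : Nat.card (AF F ⊓ TP K : Subgroup (MulAut (PG K))) = d := by
    have := Subgroup.card_le_of_le hle
    omega
  have hDc' : (Nat.card (AF F ⊓ TP K : Subgroup (MulAut (PG K)))).Coprime p := by rw [hp3]; exact hDc
  have hPV := par_of H hK hF hess inf_le_right hDc' hAF (Or.inl rfl) hnV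
  have hPQ := par_of H hK hF hess inf_le_right hDc' hAF (Or.inr rfl) hnQ
  have hTor := (H.v hK _ _ hPV).1
  obtain ⟨κ0, T, hPt, hinv, hmap, n0, n1, n2, n3⟩ := card_par H.grp hA hD hN hK hq hι hPQ hTor
  rw [hPt] at h1 h2
  obtain ⟨c1, c2, c3⟩ := cfg_diff h9 hv h1 h2
  obtain ⟨t1, t2, -⟩ := (hT3 hK hq ι hι).2.2.2 T (AF F ⊓ TP K) inf_le_right hTor hinv hmap
  rw [hcd] at n0 n1 n2 n3 t1 t2
  refine ⟨by rw [hcA, hcd], hnV, hnQ, ?_, ?_, ?_⟩
  · intro hd32
    have h6 : ¬ (T = 1 ∨ T = 2 ∨ T = 3 ∨ T = 4) := by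
      intro h
      rcases t1 h with h' | h' <;> omega
    rcases fin6 T with h | h | h | h | h | h
    · exact absurd h c1
    · exact absurd (Or.inl h) h6
    · exact absurd (Or.inr (Or.inl h)) h6
    · exact absurd (Or.inr (Or.inr (Or.inl h))) h6
    · exact absurd (Or.inr (Or.inr (Or.inr h))) h6
    · rw [n3 h, hd32]
  · intro hd32 hv4
    obtain ⟨e1, e2⟩ := c2 hv4
    rcases fin6 T with h | h | h | h | h | h
    · exact absurd h c1
    · rw [n1 (Or.inl h), mul_assoc]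
    · rw [n1 (Or.inr h), mul_assoc]
    · exact absurd h e1
    · exact absurd h e2
    · exact absurd (t2 h) hd32
  · intro hd32 hv4
    obtain ⟨e1, e2⟩ := c3 hv4
    rcases fin6 T with h | h | h | h | h | h
    · exact absurd h c1
    · exact absurd h e1
    · exact absurd h e2
    · rw [n2 (Or.inl h), mul_assoc]
    · rw [n2 (Or.inr h), mul_assoc]
    · exact absurd (t2 h) hd32

/-! ### lower bounds -/

theorem card_double {G : Type*} [Group G] [Finite G] {X D : Subgroup G} (h : X ≤ D) {x : G} (hx : x ∈ D)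
    (hx' : x ∉ X) : 2 * Nat.card X ≤ Nat.card D := by
  obtain ⟨k, hk⟩ := Subgroup.card_dvd_of_le h
  have h0 : 0 < Nat.card D := Nat.card_pos
  have hk0 : k ≠ 0 := by
    rintro rfl
    omega
  have hk1 : k ≠ 1 := by
    rintro rfl
    apply hx'
    rw [Subgroup.eq_of_le_of_card_ge h (by omega)]
    exact hx
  rw [hk, mul_comm 2]
  exact Nat.mul_le_mul_left _ (by omega)

theorem tor_ext {α β : MulAut (PG K)} {s l : K} {τ : K ≃+* K} (h1 : IsTorP α s l τ) (h2 : IsTorP β s l τ) :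
    α = β := H815.P4.IsTorP.ext' h1 h2 fun _ => rfl

theorem tor_mul {α β : MulAut (PG K)} {s l s' l' : K} {τ τ' : K ≃+* K} (h1 : IsTorP α s l τ)
    (h2 : IsTorP β s' l' τ') : IsTorP (α * β) (s * τ s') (l * τ l') (τ'.trans τ) where
  ns := mul_ne_zero h1.ns (by simpa using h2.ns)
  nl := mul_ne_zero h1.nl (by simpa using h2.nl)
  sl := by rw [star_mul', h1.sl, ← h1.tst, h2.sl]
  tst x := by
    show τ (τ' (star x)) = star (τ (τ' x))
    rw [h2.tst, h1.tst]
  r g := by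
    show (α (β g)).r = _
    rw [h1.r, h2.r, map_mul, mul_assoc]
    rfl
  a g := by
    show (α (β g)).a = _
    rw [h1.a, h2.a, map_mul, map_mul, map_mul, h1.tst, star_mul']
    show _ = _ * τ (τ' g.a)
    ring
  b g := by
    show (α (β g)).b = _
    rw [h1.b, h2.b, map_mul, map_mul]
    show _ = _ * τ (τ' g.b)
    ring
  c g := by
    show (α (β g)).c = _
    rw [h1.c, h2.c, map_mul, mul_assoc]
    rfl

theorem tor_mul_refl {α β : MulAut (PG K)} {s l s' l' : K} (h1 : IsTorP α s l (RingEquiv.refl K))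
    (h2 : IsTorP β s' l' (RingEquiv.refl K)) : IsTorP (α * β) (s * s') (l * l') (RingEquiv.refl K) := tor_mul h1 h2

theorem tor_one : IsTorP (1 : MulAut (PG K)) 1 1 (RingEquiv.refl K) where
  ns := one_ne_zero
  nl := one_ne_zero
  sl := star_one K
  tst x := rfl
  r g := by simp
  a g := by simp
  b g := by simp
  c g := by simp

theorem tor_inv_refl {d : MulAut (PG K)} {s l : K} (h : IsTorP d s l (RingEquiv.refl K)) :
    IsTorP d⁻¹ s⁻¹ l⁻¹ (RingEquiv.refl K) := H987.P4.Tor.inv h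

/-- the parameters are determined by the automorphism -/
theorem tor_uniq {α : MulAut (PG K)} {s l s' l' : K} {τ τ' : K ≃+* K} (h1 : IsTorP α s l τ)
    (h2 : IsTorP α s' l' τ') : s = s' ∧ l = l' ∧ ∀ x, τ x = τ' x := by
  have hr : ∀ x : K, s * τ x = s' * τ' x := by
    intro x
    have := h1.r ⟨x, 0, 0, 0, by simp, by simp⟩
    rw [h2.r] at this
    exact this.symm
  have hs : s = s' := by simpa using hr 1
  subst hs
  refine ⟨rfl, ?_, fun x => mul_left_cancel₀ h1.ns (hr x)⟩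
  have := h1.c ⟨0, 0, 0, 1, by simp, by simp⟩
  rw [h2.c] at this
  simpa using this.symm

variable (K) in
/-- the linear elements of the torus -/
def LinT : Subgroup (MulAut (PG K)) where
  carrier := {α | ∃ s l, IsTorP α s l (RingEquiv.refl K)}
  one_mem' := ⟨1, 1, tor_one⟩
  mul_mem' := by
    rintro α β ⟨s, l, h⟩ ⟨s', l', h'⟩
    exact ⟨_, _, tor_mul_refl h h'⟩
  inv_mem' := by
    rintro α ⟨s, l, h⟩
    exact ⟨_, _, tor_inv_refl h⟩

variable (K) in
/-- the subgroup `l = s²` -/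
def SqT : Subgroup (MulAut (PG K)) where
  carrier := {α | ∃ s, IsTorP α s (s * s) (RingEquiv.refl K)}
  one_mem' := ⟨1, by rw [mul_one]; exact tor_one⟩
  mul_mem' := by
    rintro α β ⟨s, h⟩ ⟨s', h'⟩
    refine ⟨s * s', ?_⟩
    have := tor_mul_refl h h'
    rwa [show s * s * (s' * s') = s * s' * (s * s') by ring] at this
  inv_mem' := by
    rintro α ⟨s, h⟩
    refine ⟨s⁻¹, ?_⟩
    have := tor_inv_refl h
    rwa [mul_inv] at this

theorem one_ne_neg (h : Nine K ι) : (1 : K) ≠ -1 := by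
  intro h0
  have h3 := h.three
  have h4 : (2 : K) = 0 := by linear_combination h0
  have : (1 : K) = 0 := by linear_combination h3 - h4
  exact one_ne_zero this

theorem zeta_order (h : Nine K ι) {ζ : MulAut (PG K)} (hζ : IsTorP ζ ι (-1) (RingEquiv.refl K)) :
    Nat.card (Subgroup.zpowers ζ) = 4 := by
  have e2 : IsTorP (ζ ^ 2) (-1) 1 (RingEquiv.refl K) := by
    have := tor_mul_refl hζ hζ
    rwa [h.ii, show (-1 : K) * -1 = 1 by ring, ← pow_two] at this
  have e4 : IsTorP (ζ ^ 4) 1 1 (RingEquiv.refl K) := by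
    have := tor_mul_refl e2 e2
    rwa [show (-1 : K) * -1 = 1 by ring, one_mul, ← pow_add] at this
  rw [Nat.card_zpowers]
  refine orderOf_eq_prime_pow (p := 2) (n := 1) ?_ ?_
  · intro h1
    rw [pow_one] at h1
    rw [h1] at e2
    exact one_ne_neg h (tor_uniq tor_one e2).1
  · exact tor_ext e4 tor_one

variable {D : Subgroup (MulAut (PG K))}

theorem zpow_le_lin {ζ : MulAut (PG K)} (hζ : IsTorP ζ ι (-1) (RingEquiv.refl K)) (h1 : ζ ∈ D) :
    Subgroup.zpowers ζ ≤ D ⊓ LinT K :=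
  (Subgroup.zpowers_le).2 ⟨h1, ι, -1, hζ⟩

theorem low_eight (hK : HypK K p n) (h : Nine K ι) {ζ ρ : MulAut (PG K)}
    (hζ : IsTorP ζ ι (-1) (RingEquiv.refl K)) (h1 : ζ ∈ D) {s0 l0 : K} {τ : K ≃+* K} (hρ : IsTorP ρ s0 l0 τ)
    (hτ : ∀ x, τ x = star x) (h2 : ρ ∈ D) : 8 ≤ Nat.card D := by
  have hfinA : Finite (MulAut (PG K)) := H815.P4.finite_aut hK
  have e1 := Subgroup.card_le_of_le (zpow_le_lin hζ h1)
  rw [zeta_order h hζ] at e1
  have e2 := card_double (inf_le_left : D ⊓ LinT K ≤ D) h2 (by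
    rintro ⟨-, s, l, hs⟩
    have e3 := (tor_uniq hρ hs).2.2 ι
    rw [hτ, h.st_ι] at e3
    have e4 : -ι = ι := e3
    have e5 : (2 : K) * ι = 0 := by linear_combination -e4
    rcases mul_eq_zero.1 e5 with e6 | e6
    · have h3 := h.three
      have : (1 : K) = 0 := by linear_combination h3 - e6
      exact one_ne_zero this
    · exact h.ι_ne e6)
  omega

theorem low_sixteen (hK : HypK K p n) (h : Nine K ι) {ζ ρ z : MulAut (PG K)}
    (hζ : IsTorP ζ ι (-1) (RingEquiv.refl K)) (h1 : ζ ∈ D) {s0 l0 : K} {τ : K ≃+* K} (hρ : IsTorP ρ s0 l0 τ)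
    (hτ : ∀ x, τ x = star x) (h2 : ρ ∈ D) (hz : IsTorP z 1 (-1) (RingEquiv.refl K)) (h3 : z ∈ D) :
    16 ≤ Nat.card D := by
  have hfinA : Finite (MulAut (PG K)) := H815.P4.finite_aut hK
  have e1 := card_double (zpow_le_lin hζ h1) (x := z) ⟨h3, 1, -1, hz⟩ (by
    intro hzz
    have e3 : Subgroup.zpowers ζ ≤ SqT K := (Subgroup.zpowers_le).2 ⟨ι, by rw [h.ii]; exact hζ⟩
    obtain ⟨s, hs⟩ := e3 hzz
    obtain ⟨e4, e5, -⟩ := tor_uniq hz hs
    rw [← e4, mul_one] at e5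
    exact one_ne_neg h e5.symm)
  rw [zeta_order h hζ] at e1
  have e2 := card_double (inf_le_left : D ⊓ LinT K ≤ D) h2 (by
    rintro ⟨-, s, l, hs⟩
    have e3 := (tor_uniq hρ hs).2.2 ι
    rw [hτ, h.st_ι] at e3
    have e4 : -ι = ι := e3
    have e5 : (2 : K) * ι = 0 := by linear_combination -e4
    rcases mul_eq_zero.1 e5 with e6 | e6
    · have h3 := h.three
      have : (1 : K) = 0 := by linear_combination h3 - e6
      exact one_ne_zero this
    · exact h.ι_ne e6)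
  omega

/-! ### upper bounds -/

/-- the group theory of `TP K` -/
theorem card_le_eight (hG : StGrp.{u}) (hK : HypK K p n) (hq : p ^ n = 3) (h : Nine K ι) (hD : D ≤ TP K)
    (hT : HasTorP D (fun t => t ^ 2) (fun t => (t * star t)⁻¹))
    (hz : ∀ z, IsTorP z 1 (-1) (RingEquiv.refl K) → z ∉ D) : Nat.card D ≤ 8 := by
  have hfinA : Finite (MulAut (PG K)) := H815.P4.finite_aut hK
  by_contra hcon
  have hdvd : Nat.card D ∣ 32 := by
    rw [← H815.P4.card_TP hG hK hq]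
    exact Subgroup.card_dvd_of_le hD
  have hex := (hG hK).2.2.1
  have h3 := h.three
  have hii := h.ii
  have hst : star (1 + ι) = 1 - ι := by rw [star_add, star_one, h.st_ι]; ring
  have hprod : (1 + ι) * (1 - ι) = -1 := by linear_combination h3 - hii
  have hne : (1 + ι) ≠ 0 := by
    intro h0
    rw [h0, zero_mul] at hprod
    exact one_ne_zero (neg_eq_zero.1 hprod.symm)
  obtain ⟨β, hβ⟩ := hex (1 + ι) 1 (RingEquiv.refl K) hne one_ne_zero (star_one K)
  obtain ⟨z, hz'⟩ := hex 1 (-1) (RingEquiv.refl K) one_ne_zero (neg_ne_zero.2 one_ne_zero) (by simp)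
  have hβT : β ∈ TP K := Subgroup.subset_closure ⟨_, _, _, hβ⟩
  have hβ2 : β ^ 2 ∈ D := by
    have e1 := Subgroup.card_mul_index (D.subgroupOf (TP K))
    rw [Nat.card_congr (Subgroup.subgroupOfEquivOfLe hD).toEquiv, H815.P4.card_TP hG hK hq] at e1
    have e2 : (D.subgroupOf (TP K)).index = 1 ∨ (D.subgroupOf (TP K)).index = 2 := by
      generalize (D.subgroupOf (TP K)).index = m at e1
      generalize Nat.card D = k at e1 hcon hdvd
      have hk : k ≤ 32 := Nat.le_of_dvd (by norm_num) hdvd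
      have hm : m ≤ 3 := by
        by_contra hm
        have : 9 * 4 ≤ k * m := Nat.mul_le_mul (by omega) (by omega)
        omega
      interval_cases m <;> omega
    rcases e2 with e2 | e2
    · have e3 : D.subgroupOf (TP K) = ⊤ := Subgroup.index_eq_one.1 e2
      exact (Subgroup.mem_subgroupOf.1 (e3 ▸ Subgroup.mem_top (⟨β ^ 2, Subgroup.pow_mem _ hβT 2⟩ : TP K)))
    · exact Subgroup.mem_subgroupOf.1 (Subgroup.sq_mem_of_index_two e2 ⟨β, hβT⟩)
  have hβ2' : IsTorP (β ^ 2) ((1 + ι) ^ 2) 1 (RingEquiv.refl K) := by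
    have := tor_mul_refl hβ hβ
    rwa [← pow_two, ← pow_two, one_mul] at this
  have hzβ : z * β ^ 2 ∈ D := by
    apply hT (1 + ι) hne
    have e1 := tor_mul_refl hz' hβ2'
    have e2 : ((1 + ι) * star (1 + ι))⁻¹ = -1 := by rw [hst, hprod]; norm_num
    show IsTorP _ ((1 + ι) ^ 2) (((1 + ι) * star (1 + ι))⁻¹) _
    rw [e2]
    rwa [one_mul, mul_one] at e1
  exact hz z hz' ((Subgroup.mul_mem_cancel_right D hβ2).1 hzβ)

/-- an automorphism which inverts `V` and is trivial on `S/V` -/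
theorem card_AF_le_eight (H : Pcs.{u}) [Fact p.Prime] (hK : HypK K p n) (hq : p ^ n = 3) (hι : ι * ι = -1)
    {F : FusionSystem (⊤ : Subgroup (PG K))} (hF : F.IsSaturated p)
    (hnV : ¬ ∀ γ ∈ F.autGroup (PV K), NormAut (⊤ : Subgroup (PG K)) γ)
    (hnQ : ¬ ∀ γ ∈ F.autGroup (PQ K), NormAut (⊤ : Subgroup (PG K)) γ)
    (hN : ∀ α ∈ AF F, (∀ x ∈ PV K, α x = x⁻¹) → (∀ x, (α x).r = x.r) → False) : Nat.card (AF F) ≤ 243 * 8 := by
  have h9 := nine_of hK hq hι
  have hp3 := three_of hK hq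
  have hq2 : 2 < p ^ n := by rw [hq]; norm_num
  have hess : ∀ E, F.IsEssential p E → E = PV K ∨ E = PQ K := fun E hE => ess_cases H hK hq2 hF hE
  obtain ⟨θ, F', D, hTw, hNF⟩ := exists_NF H hK hF hess hnV hnQ
  have hDT : D ≤ TP K := hNF.parQ.D_le
  have hDc : (Nat.card D).Coprime 3 := by
    have := hNF.parQ.D_cop
    rwa [hp3] at this
  have hc : Nat.card (AF F) = 243 * Nat.card D := by
    rw [← H815.P4.card_innD hK hq hDc, ← hNF.AF_eq, hTw.AF_eq, card_map_conj]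
  rw [hc]
  apply Nat.mul_le_mul_left
  refine card_le_eight H.grp hK hq h9 hDT hNF.tor ?_
  intro z hz hzD
  have hV : (PV K).map θ.toMonoidHom = PV K := ((H.ti hK).2 _ (Or.inl rfl)).2.2 θ
  have hVm : ∀ x, θ x ∈ PV K ↔ x ∈ PV K := by
    intro x
    constructor
    · intro hx
      rw [← hV] at hx
      obtain ⟨y, hy, hyx⟩ := hx
      rwa [← θ.injective hyx]
    · intro hx
      rw [← hV]
      exact ⟨x, hx, rfl⟩
  have hzA : z ∈ AF F' := by
    rw [hNF.AF_eq]
    exact Subgroup.mem_sup_right hzD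
  rw [hTw.AF_eq] at hzA
  obtain ⟨α, hα, hαz⟩ := hzA
  have key : ∀ x, θ (α x) = z (θ x) := by
    intro x
    have e1 : z = θ * α * θ⁻¹ := hαz.symm
    rw [e1, MulAut.mul_apply, MulAut.mul_apply, MulAut.inv_apply_self]
  refine hN α hα ?_ ?_
  · intro x hx
    apply θ.injective
    rw [key, map_inv]
    have hx' : (θ x).r = 0 := (hVm x).2 hx
    apply PG.ext
    · rw [hz.r, PG.inv_r, hx', map_zero, mul_zero, neg_zero]
    · rw [hz.a, PG.inv_a, hx']
      simp
    · rw [hz.b, PG.inv_b, hx']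
      simp
    · rw [hz.c, PG.inv_c]
      simp
  · intro x
    have e1 : θ (x⁻¹ * α x) ∈ PV K := by
      show (θ (x⁻¹ * α x)).r = 0
      rw [map_mul, key, map_inv, PG.mul_r, PG.inv_r, hz.r]
      simp
    have e2 : (x⁻¹ * α x).r = 0 := (hVm _).1 e1
    rw [PG.mul_r, PG.inv_r] at e2
    linear_combination e2

end main

/-- automizers in a group and in a subgroup of index two -/
theorem card_le_two_mul {P G : Type*} [Group P] [Group G] [Finite (MulAut P)] (φ : P →* G) (G1 : Subgroup G)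
    (h2 : G1.index = 2) {A1 A2 : Subgroup (MulAut P)} (hA1 : ∀ α, α ∈ A1 ↔ ∃ g ∈ G1, ∀ x, φ (α x) = g * φ x * g⁻¹)
    (hA2 : ∀ α, α ∈ A2 ↔ ∃ g, ∀ x, φ (α x) = g * φ x * g⁻¹) : Nat.card A2 ≤ 2 * Nat.card A1 := by
  have hle : A1 ≤ A2 := by
    intro α hα
    obtain ⟨g, -, hg⟩ := (hA1 α).1 hα
    exact (hA2 α).2 ⟨g, hg⟩
  have h1 := Subgroup.card_mul_index (A1.subgroupOf A2)
  rw [Nat.card_congr (Subgroup.subgroupOfEquivOfLe hle).toEquiv] at h1
  have h3 : (A1.subgroupOf A2).index ≤ 2 := by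
    by_cases hex : ∃ β ∈ A2, β ∉ A1
    · obtain ⟨β, hβ, hβ1⟩ := hex
      have : (A1.subgroupOf A2).index = 2 := by
        rw [Subgroup.index_eq_two_iff]
        refine ⟨⟨β, hβ⟩, fun α => ?_⟩
        obtain ⟨g, hg⟩ := (hA2 _).1 α.2
        obtain ⟨k, hk⟩ := (hA2 _).1 hβ
        have hmul : ∀ x, φ (((α : MulAut P) * β) x) = (g * k) * φ x * (g * k)⁻¹ := by
          intro x
          rw [MulAut.mul_apply, hg, hk]
          group
        have hkG : k ∉ G1 := fun hkG => hβ1 ((hA1 _).2 ⟨k, hkG, hk⟩)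
        rw [Subgroup.mem_subgroupOf, Subgroup.mem_subgroupOf]
        by_cases hα : (α : MulAut P) ∈ A1
        · right
          refine ⟨hα, ?_⟩
          intro hαβ
          exact hβ1 ((Subgroup.mul_mem_cancel_left A1 hα).1 hαβ)
        · left
          have hgG : g ∉ G1 := fun hgG => hα ((hA1 _).2 ⟨g, hgG, hg⟩)
          refine ⟨(hA1 _).2 ⟨g * k, ?_, hmul⟩, hα⟩
          exact (Subgroup.mul_mem_iff_of_index_two h2).2 (by tauto)
      omega
    · push_neg at hex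
      have : A1.subgroupOf A2 = ⊤ := by
        ext α
        rw [Subgroup.mem_subgroupOf]
        exact ⟨fun _ => trivial, fun _ => hex _ α.2⟩
      rw [this, Subgroup.index_top]
      omega
  rw [← h1, mul_comm]
  exact Nat.mul_le_mul_right _ h3

end Cfsg.Agent.H936.P4
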